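import Groth.Agent.Lib.Lead.QC.ProjSections

/-! Restriction of sections of a quasi-coherent module between affine opens is a base change. -/

universe u
open CategoryTheory Limits AlgebraicGeometry TopologicalSpace Opposite TensorProduct

namespace Groth.Agent.H5.ExtTilde
open Groth.Agent.LD.QC

variable {X : Scheme.{u}}

/-- restriction of functions (as `appLE` of the identity, matching the instances of
`isBaseChange_pbSec`). -/
noncomputable abbrev rho {U V : X.Opens} (h : V ≤ U) : Γ(X, U) →+* Γ(X, V) :=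
  ((𝟙 X : X ⟶ X).appLE U V (show V ≤ (𝟙 X : X ⟶ X) ⁻¹ᵁ U from h)).hom

lemma rho_apply {U V : X.Opens} (h : V ≤ U) (r : Γ(X, U)) :
    rho h r = X.presheaf.map (homOfLE h).op r := by
  simp only [rho, Scheme.Hom.appLE, Scheme.Hom.id_app]
  rfl

/-- `Γ(X, V)` as a `Γ(X, U)`-algebra. -/
@[reducible] noncomputable def algRes {U V : X.Opens} (h : V ≤ U) : Algebra Γ(X, U) Γ(X, V) :=
  (rho h).toAlgebra

/-- `Γ(N, V)` as a `Γ(X, U)`-module. -/
@[reducible] noncomputable def modRes (N : X.Modules) {U V : X.Opens} (h : V ≤ U) :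
    Module Γ(X, U) Γ(N, V) :=
  Module.compHom _ (rho h)

lemma tower_res (N : X.Modules) {U V : X.Opens} (h : V ≤ U) :
    letI := algRes h
    letI := modRes N h
    IsScalarTower Γ(X, U) Γ(X, V) Γ(N, V) :=
  letI := algRes h
  letI := modRes N h
  IsScalarTower.of_algebraMap_smul fun _ _ => rfl

/-- restriction of sections, as a linear map. -/
noncomputable def resL (N : X.Modules) {U V : X.Opens} (h : V ≤ U) :
    letI := modRes N h
    Γ(N, U) →ₗ[Γ(X, U)] Γ(N, V) :=
  letI := modRes N h
  { toFun := fun s => N.presheaf.map (homOfLE h).op s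
    map_add' := fun a b => map_add _ a b
    map_smul' := fun r s => by
      change N.presheaf.map (homOfLE h).op (r • s) = rho h r • N.presheaf.map (homOfLE h).op s
      rw [rho_apply, smul_res] }

/-- `(𝟙 X)^* N ≅ N`, through the restriction functor. -/
noncomputable def theta (N : X.Modules) : (Scheme.Modules.pullback (𝟙 X)).obj N ≅ N :=
  ((Scheme.Modules.restrictFunctorIsoPullback (𝟙 X)).app N).symm ≪≫
    (Scheme.Modules.restrictFunctorId (X := X)).app N

lemma theta_pbSec (N : X.Modules) {U V : X.Opens} (h : V ≤ U) (n : Γ(N, U)) :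
    (theta N).hom.app V (pbSec (𝟙 X) N (show V ≤ (𝟙 X : X ⟶ X) ⁻¹ᵁ U from h) n) =
      N.presheaf.map (homOfLE h).op n := by
  rw [pbSec_restrict]
  unfold theta
  rw [Iso.trans_hom, Scheme.Modules.Hom.comp_app]
  set Φ := (Scheme.Modules.restrictFunctorIsoPullback (𝟙 X : X ⟶ X)).app N with hΦ
  have h1 : ∀ y, (Φ.symm.hom.app V) ((Φ.hom.app V) y) = y := fun y => by
    have : Φ.hom ≫ Φ.inv = 𝟙 _ := Φ.hom_inv_id
    exact congr($(this).app V y)
  rw [ConcreteCategory.comp_apply]
  erw [h1]
  rw [Iso.app_hom, Scheme.Modules.restrictFunctorId_hom_app_app]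
  change N.presheaf.map _ (N.presheaf.map _ n) = _
  rw [← N.presheaf.map_comp_apply]
  rfl

/-- **restriction of sections of a quasi-coherent module between affine opens is a base
change.** -/
theorem isBaseChange_resL (N : X.Modules) [N.IsQuasicoherent] {U V : X.Opens}
    (hU : IsAffineOpen U) (hV : IsAffineOpen V) (h : V ≤ U) :
    letI := algRes h
    letI := modRes N h
    haveI := tower_res N h
    IsBaseChange Γ(X, V) (resL N h) := by
  letI := algRes h
  letI := modRes N h
  haveI := tower_res N h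
  have e' : V ≤ (𝟙 X : X ⟶ X) ⁻¹ᵁ U := h
  letI := pbModule (𝟙 X) N e'
  haveI := pbModule_isScalarTower (𝟙 X) N e'
  have hbc := isBaseChange_pbSec (𝟙 X) hV hU e' N
  refine IsBaseChange.of_equiv (hbc.equiv ≪≫ₗ secLinearEquivOfIso (theta N) V) (fun s => ?_)
  rw [LinearEquiv.trans_apply, hbc.equiv_tmul, one_smul]
  exact theta_pbSec N h s

end Groth.Agent.H5.ExtTilde
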