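import Mathlib
import Groth.Agent.Lib.Helper5.DRBC.A

/-! Exterior powers and base change: the map `⋀^n_R M → ⋀^n_B N` induced by a base change
`M → N`, is a base change; the induced comparison isomorphism and its naturality. -/

open TensorProduct exteriorPower

namespace Groth.Agent.H5.ExtTilde

section Wedge
variable {R : Type*} [CommRing R] {M : Type*} [AddCommGroup M] [Module R M]
  {B : Type*} [CommRing B] [Algebra R B]
  {N : Type*} [AddCommGroup N] [Module B N] [Module R N] [IsScalarTower R B N]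
  (n : ℕ)

/-- the `R`-alternating map `m ↦ f m₁ ∧ … ∧ f mₙ ∈ ⋀^n_B N`. -/
noncomputable def wedgeAlt (f : M →ₗ[R] N) : M [⋀^Fin n]→ₗ[R] ↥(⋀[B]^n N) :=
  { (((exteriorPower.ιMulti B n (M := N)).toMultilinearMap.restrictScalars R).compLinearMap
      (fun _ => f)) with
    map_eq_zero_of_eq' := fun v i j h hij =>
      (exteriorPower.ιMulti B n (M := N)).map_eq_zero_of_eq (fun k => f (v k))
        (by simp only [h]) hij }

theorem wedgeAlt_apply (f : M →ₗ[R] N) (m : Fin n → M) :
    wedgeAlt (B := B) n f m = ιMulti B n (fun i => f (m i)) := rfl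

/-- the `R`-linear map `⋀^n_R M → ⋀^n_B N` induced by `f : M → N`. -/
noncomputable def wedgeMap (f : M →ₗ[R] N) : ↥(⋀[R]^n M) →ₗ[R] ↥(⋀[B]^n N) :=
  exteriorPower.alternatingMapLinearEquiv (wedgeAlt (B := B) n f)

theorem wedgeMap_ιMulti (f : M →ₗ[R] N) (m : Fin n → M) :
    wedgeMap (B := B) n f (ιMulti R n m) = ιMulti B n (fun i => f (m i)) := by
  unfold wedgeMap
  rw [exteriorPower.alternatingMapLinearEquiv_apply_ιMulti, wedgeAlt_apply]

theorem isBaseChange_wedgeMap {f : M →ₗ[R] N} (hf : IsBaseChange B f) :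
    IsBaseChange B (wedgeMap (B := B) n f) := by
  have hg : ∀ v : Fin n → M, wedgeMap (B := B) n f (ιMulti R n v) =
      ιMulti B n (fun i => hf.equiv ((1:B) ⊗ₜ[R] v i)) := by
    intro v
    rw [wedgeMap_ιMulti]
    congr 1
    funext i
    rw [hf.equiv_tmul, one_smul]
  refine IsBaseChange.of_equiv
    (LinearEquiv.ofBijective ((wedgeMap (B := B) n f).liftBaseChange B)
      ⟨Groth.Agent.Lib.Helper5.DRBC.liftBaseChange_injective hf.equiv n _ hg,
       Groth.Agent.Lib.Helper5.DRBC.liftBaseChange_surjective hf.equiv n _ hg⟩) ?_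
  intro x
  rw [LinearEquiv.ofBijective_apply, LinearMap.liftBaseChange_tmul, one_smul]

variable {L : Type*} [AddCommGroup L] [Module B L] [Module R L] [IsScalarTower R B L]

/-- two base changes of `⋀^n_R M` are canonically isomorphic. -/
noncomputable def phi {f : M →ₗ[R] N} (hf : IsBaseChange B f) {h : ↥(⋀[R]^n M) →ₗ[R] L}
    (hh : IsBaseChange B h) : L ≃ₗ[B] ↥(⋀[B]^n N) :=
  hh.equiv.symm ≪≫ₗ (isBaseChange_wedgeMap n hf).equiv

theorem phi_apply {f : M →ₗ[R] N} (hf : IsBaseChange B f) {h : ↥(⋀[R]^n M) →ₗ[R] L}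
    (hh : IsBaseChange B h) (x : ↥(⋀[R]^n M)) :
    phi n hf hh (h x) = wedgeMap (B := B) n f x := by
  unfold phi
  rw [LinearEquiv.trans_apply, hh.equiv_symm_apply, IsBaseChange.equiv_tmul, one_smul]

theorem phi_symm_apply {f : M →ₗ[R] N} (hf : IsBaseChange B f) {h : ↥(⋀[R]^n M) →ₗ[R] L}
    (hh : IsBaseChange B h) (x : ↥(⋀[R]^n M)) :
    (phi n hf hh).symm (wedgeMap (B := B) n f x) = h x := by
  rw [← phi_apply n hf hh, LinearEquiv.symm_apply_apply]

end Wedge

section Compat
variable {R : Type*} [CommRing R] {M : Type*} [AddCommGroup M] [Module R M]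
  {B : Type*} [CommRing B] [Algebra R B] {C : Type*} [CommRing C] [Algebra R C] [Algebra B C]
  [IsScalarTower R B C]
  {N : Type*} [AddCommGroup N] [Module B N] [Module R N] [IsScalarTower R B N]
  {L : Type*} [AddCommGroup L] [Module B L] [Module R L] [IsScalarTower R B L]
  {N' : Type*} [AddCommGroup N'] [Module C N'] [Module R N'] [IsScalarTower R C N']
  [Module B N'] [IsScalarTower B C N']
  {L' : Type*} [AddCommGroup L'] [Module C L'] [Module R L'] [IsScalarTower R C L']
  [Module B L'] [IsScalarTower B C L']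
  (n : ℕ)
  {f : M →ₗ[R] N} (hf : IsBaseChange B f) {h : ↥(⋀[R]^n M) →ₗ[R] L} (hh : IsBaseChange B h)
  {f' : M →ₗ[R] N'} (hf' : IsBaseChange C f') {h' : ↥(⋀[R]^n M) →ₗ[R] L'}
  (hh' : IsBaseChange C h')
  (rN : N →ₗ[B] N') (hrN : ∀ m, rN (f m) = f' m)
  (rL : L →ₗ[B] L') (hrL : ∀ x, rL (h x) = h' x)

include hrN in
theorem wedgeMap_wedgeMap (ω : ↥(⋀[R]^n M)) :
    wedgeMap (R := B) (B := C) n rN (wedgeMap (B := B) n f ω) = wedgeMap (B := C) n f' ω := by
  have hω : ω ∈ Submodule.span R (Set.range (ιMulti R n (M := M))) := by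
    rw [ιMulti_span]; trivial
  induction hω using Submodule.span_induction with
  | mem y hy =>
    obtain ⟨v, rfl⟩ := hy
    rw [wedgeMap_ιMulti, wedgeMap_ιMulti, wedgeMap_ιMulti]
    simp only [hrN]
  | zero => simp
  | add y z _ _ hy hz => rw [map_add, map_add, map_add, hy, hz]
  | smul a y _ hy =>
    have h1 : wedgeMap (B := B) n f (a • y) = algebraMap R B a • wedgeMap (B := B) n f y := by
      rw [map_smul, algebraMap_smul]
    have h2 : wedgeMap (B := C) n f' (a • y) = algebraMap R C a • wedgeMap (B := C) n f' y := by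
      rw [map_smul, algebraMap_smul]
    rw [h1, map_smul, hy, h2, ← algebraMap_smul C (algebraMap R B a),
      ← IsScalarTower.algebraMap_apply]

include hrN hrL in
theorem compat (e : Fin n → N) :
    rL ((phi n hf hh).symm (ιMulti B n e)) =
      (phi n hf' hh').symm (ιMulti C n (fun i => rN (e i))) := by
  have key : ∀ x : ↥(⋀[B]^n N), rL ((phi n hf hh).symm x) =
      (phi n hf' hh').symm (wedgeMap (R := B) (B := C) n rN x) := by
    intro x
    refine (isBaseChange_wedgeMap n hf).inductionOn x _ ?_ ?_ ?_ ?_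
    · simp
    · intro ω
      rw [phi_symm_apply, hrL, wedgeMap_wedgeMap n rN hrN, phi_symm_apply]
    · intro b y hy
      have h1 : (phi n hf hh).symm (b • y) = b • (phi n hf hh).symm y := map_smul _ _ _
      have h2 : wedgeMap (R := B) (B := C) n rN (b • y) =
          algebraMap B C b • wedgeMap (R := B) (B := C) n rN y := by
        rw [map_smul, algebraMap_smul]
      rw [h1, map_smul, hy, h2, map_smul, algebraMap_smul]
    · intro y z hy hz
      rw [map_add, map_add, hy, hz, map_add, map_add]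
  rw [key, wedgeMap_ιMulti]

end Compat

section Bij

theorem isBaseChange_of_bijective {R : Type*} [CommRing R] {B : Type*} [CommRing B] [Algebra R B]
    {M : Type*} [AddCommGroup M] [Module R M] {N : Type*} [AddCommGroup N] [Module B N]
    [Module R N] [IsScalarTower R B N] (hB : Function.Surjective (algebraMap R B))
    (f : M →ₗ[R] N) (hf : Function.Bijective f) : IsBaseChange B f := by
  have hsurj : ∀ x : B ⊗[R] M, ∃ m : M, x = (1:B) ⊗ₜ[R] m := by
    intro x
    induction x using TensorProduct.induction_on with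
    | zero => exact ⟨0, by simp⟩
    | tmul b m =>
      obtain ⟨r, rfl⟩ := hB b
      refine ⟨r • m, ?_⟩
      rw [Algebra.algebraMap_eq_smul_one, TensorProduct.smul_tmul]
    | add x y hx hy =>
      obtain ⟨m, rfl⟩ := hx
      obtain ⟨m', rfl⟩ := hy
      exact ⟨m + m', by rw [TensorProduct.tmul_add]⟩
  refine IsBaseChange.of_equiv (LinearEquiv.ofBijective (f.liftBaseChange B) ⟨?_, ?_⟩) ?_
  · intro x y hxy
    obtain ⟨m, rfl⟩ := hsurj x
    obtain ⟨m', rfl⟩ := hsurj y
    rw [LinearMap.liftBaseChange_tmul, LinearMap.liftBaseChange_tmul, one_smul, one_smul] at hxy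
    rw [hf.1 hxy]
  · intro y
    obtain ⟨m, rfl⟩ := hf.2 y
    exact ⟨1 ⊗ₜ m, by rw [LinearMap.liftBaseChange_tmul, one_smul]⟩
  · intro x
    rw [LinearEquiv.ofBijective_apply, LinearMap.liftBaseChange_tmul, one_smul]

end Bij

end Groth.Agent.H5.ExtTilde
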