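import Groth.Agent.Lib.Helper5.ExtTilde.Alg
import Groth.Agent.Lib.Helper5.ExtTilde.Res
import Groth.Prelude.Def_ExtPow2

/-! On an affine scheme, a module whose global sections are the exterior power of the global
sections of a quasi-coherent module `E` (both quasi-coherent) is an exterior power of `E` in the
affine-local sense; application to `tilde`. -/

universe u
open CategoryTheory Limits AlgebraicGeometry TopologicalSpace Opposite TensorProduct exteriorPower

namespace Groth.Agent.H5.ExtTilde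
open Groth.Agent.LD.QC

variable {X : Scheme.{u}}

section Top
variable (hT : IsAffineOpen (⊤ : X.Opens)) (E L : X.Modules)
  [E.IsQuasicoherent] [L.IsQuasicoherent] (n : ℕ)
  (h₀ : ↥(⋀[Γ(X, ⊤)]^n Γ(E, ⊤)) ≃ₗ[Γ(X, ⊤)] Γ(L, ⊤))

/-- the comparison isomorphism over an affine open. -/
noncomputable def phiU {U : X.Opens} (hU : IsAffineOpen U) :
    Γ(L, U) ≃ₗ[Γ(X, U)] ↥(⋀[Γ(X, U)]^n Γ(E, U)) :=
  letI := algRes (le_top : U ≤ ⊤)
  letI := modRes E (le_top : U ≤ ⊤)
  letI := modRes L (le_top : U ≤ ⊤)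
  haveI := tower_res E (le_top : U ≤ ⊤)
  haveI := tower_res L (le_top : U ≤ ⊤)
  phi n (isBaseChange_resL E hT hU le_top)
    (IsBaseChange.comp_equiv h₀ _ (isBaseChange_resL L hT hU le_top))

theorem phiU_compat {U V : X.Opens} (hU : IsAffineOpen U) (hV : IsAffineOpen V) (h : V ≤ U)
    (e : Fin n → Γ(E, U)) :
    L.presheaf.map (homOfLE h).op ((phiU hT E L n h₀ hU).symm (ιMulti Γ(X, U) n e)) =
      (phiU hT E L n h₀ hV).symm
        (ιMulti Γ(X, V) n (fun j => E.presheaf.map (homOfLE h).op (e j))) := by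
  letI aU := algRes (le_top : U ≤ ⊤)
  letI aV := algRes (le_top : V ≤ ⊤)
  letI aUV := algRes h
  letI mEU := modRes E (le_top : U ≤ ⊤)
  letI mLU := modRes L (le_top : U ≤ ⊤)
  letI mEV := modRes E (le_top : V ≤ ⊤)
  letI mLV := modRes L (le_top : V ≤ ⊤)
  letI mEUV := modRes E h
  letI mLUV := modRes L h
  haveI t1 : IsScalarTower Γ(X, ⊤) Γ(X, U) Γ(X, V) :=
    IsScalarTower.of_algebraMap_eq fun r => by
      change rho (le_top : V ≤ ⊤) r = rho h (rho (le_top : U ≤ ⊤) r)
      rw [rho_apply, rho_apply, rho_apply, sres_res]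
  haveI t2 := tower_res E (le_top : U ≤ ⊤)
  haveI t3 := tower_res L (le_top : U ≤ ⊤)
  haveI t4 := tower_res E (le_top : V ≤ ⊤)
  haveI t5 := tower_res L (le_top : V ≤ ⊤)
  haveI t6 := tower_res E h
  haveI t7 := tower_res L h
  exact compat n (isBaseChange_resL E hT hU le_top)
    (IsBaseChange.comp_equiv h₀ _ (isBaseChange_resL L hT hU le_top))
    (isBaseChange_resL E hT hV le_top)
    (IsBaseChange.comp_equiv h₀ _ (isBaseChange_resL L hT hV le_top))
    (resL E h) (fun m => res_res E le_top h m)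
    (resL L h) (fun x => res_res L le_top h (h₀ x)) e

include hT h₀ in
theorem isExtPow_of_top : ExtPow.IsExtPow n E L :=
  ⟨fun U => phiU hT E L n h₀ U.2, fun U V h e => phiU_compat hT E L n h₀ U.2 V.2 h e⟩

end Top

section Tilde

lemma algebraMap_top_bijective (R : CommRingCat.{u}) :
    Function.Bijective (algebraMap R Γ(Spec R, ⊤)) := by
  rw [IsAffineOpen.algebraMap_Spec_obj]
  have h1 : (Spec R).presheaf.map (homOfLE (le_top : (⊤ : (Spec R).Opens) ≤ ⊤)).op = 𝟙 _ := by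
    have : (homOfLE (le_top : (⊤ : (Spec R).Opens) ≤ ⊤)).op = 𝟙 (op ⊤) := rfl
    rw [this, (Spec R).presheaf.map_id]
  rw [h1, Category.comp_id]
  exact ConcreteCategory.bijective_of_isIso (Scheme.ΓSpecIso R).inv

theorem isExtPow_tilde' (R : CommRingCat.{u}) (M : ModuleCat.{u} R) (n : ℕ) :
    ExtPow.IsExtPow n (tilde M) (tilde (ModuleCat.of R ↥(⋀[R]^n M))) := by
  have hT : IsAffineOpen (⊤ : (Spec R).Opens) := isAffineOpen_top (Spec R)
  let f : M →ₗ[R] Γ(tilde M, ⊤) := (tilde.toOpen M ⊤).hom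
  let h : ↥(⋀[R]^n M) →ₗ[R] Γ(tilde (ModuleCat.of R ↥(⋀[R]^n M)), ⊤) :=
    (tilde.toOpen (ModuleCat.of R ↥(⋀[R]^n M)) ⊤).hom
  have hf : IsBaseChange Γ(Spec R, ⊤) f :=
    isBaseChange_of_bijective (algebraMap_top_bijective R).2 f
      (ConcreteCategory.bijective_of_isIso (tilde.toOpen M ⊤))
  have hh : IsBaseChange Γ(Spec R, ⊤) h :=
    isBaseChange_of_bijective (algebraMap_top_bijective R).2 h
      (ConcreteCategory.bijective_of_isIso (tilde.toOpen (ModuleCat.of R ↥(⋀[R]^n M)) ⊤))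
  exact isExtPow_of_top hT (tilde M) (tilde (ModuleCat.of R ↥(⋀[R]^n M))) n (phi n hf hh).symm

theorem isExtPow_tilde (A : Type u) [CommRing A] (M : Type u) [AddCommGroup M] [Module A M]
    (n : ℕ) :
    ExtPow.IsExtPow n (tilde (R := CommRingCat.of A) (ModuleCat.of A M))
      (tilde (R := CommRingCat.of A) (ModuleCat.of A ↥(⋀[A]^n M))) :=
  isExtPow_tilde' (CommRingCat.of A) (ModuleCat.of A M) n

end Tilde

end Groth.Agent.H5.ExtTilde
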